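import Groth.Agent.CdOneLib.Torsion
import Groth.Agent.EtShLib.ExtZeroLower
import Groth.Agent.EtShLib.Compactif
import Groth.Agent.EtShLib.NoethCons
import Groth.Agent.CovDevLib.Base
import Groth.Agent.EtKummerLib.Basic
import Groth.Agent.EtHensGmLib.Fields
import Groth.Prelude.Def_EtDepth

/-!
# Nonvanishing of cohomology in the top degree over a finite extension
-/

set_option autoImplicit false
set_option linter.unusedSectionVars false
set_option linter.style.haveILetI false
set_option backward.isDefEq.respectTransparency false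
set_option backward.isDefEq.respectTransparency.types false
set_option synthInstance.maxHeartbeats 400000
set_option maxHeartbeats 2000000

universe u

open CategoryTheory CategoryTheory.Limits CategoryTheory.Abelian AlgebraicGeometry Opposite
open Groth.Agent.EtShLib EtSliceLib EtTransferLib EtKummerLib CdOneLib EtHensGmLib

noncomputable section

namespace EtTopDegLib

theorem exists_pow_nsmul_stk {X : Scheme.{u}} {p : ℕ} {F : EtCoh.Ab X} (hF : Dix.IsPrimaryTorsion p F) {Ω : Type u}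
    [Field Ω] [IsSepClosed Ω] (ξ : Spec (CommRingCat.of Ω) ⟶ X)
    (P : ToType ((stk (A := AddCommGrpCat.{u + 1}) ξ).obj F)) : ∃ k : ℕ, p ^ k • P = 0 := by
  obtain ⟨U, u, s, rfl⟩ := exists_germ ξ P
  obtain ⟨V, g, ⟨y, hy⟩, k, hk⟩ := hF U s u.pt
  haveI := etale_left g
  obtain ⟨l, hl, -⟩ := Scheme.exists_fac_of_etale_of_isSepClosed g.left u.hom y hy
  let v : Fib ξ V := Fib.mk l (by
    rw [← u.w, ← hl, Category.assoc]
    exact congrArg (l ≫ ·) (MorphismProperty.Over.w g).symm)
  have hv : v.map g = u := Fib.ext ((Fib.map_hom g v).trans hl)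
  exact ⟨k, by rw [← hv, ← germ_res_apply, ← map_nsmul, hk, map_zero]⟩

/-- All stalks are killed by powers of `p`. -/
def Prim {X : Scheme.{u}} (p : ℕ) (F : EtCoh.Ab X) : Prop :=
  ∀ (Ω : Type u) [Field Ω] [IsSepClosed Ω] (ξ : Spec (CommRingCat.of Ω) ⟶ X)
    (P : ToType ((stk (A := AddCommGrpCat.{u + 1}) ξ).obj F)), ∃ k : ℕ, p ^ k • P = 0

theorem Prim.of_mono {X : Scheme.{u}} {p : ℕ} {A B : EtCoh.Ab X} (ι : A ⟶ B) [Mono ι] (h : Prim p B) :
    Prim p A := fun Ω _ _ ξ P => by
  obtain ⟨k, hk⟩ := h Ω ξ ((stk (A := AddCommGrpCat.{u + 1}) ξ).map ι P)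
  haveI : Mono ((stk (A := AddCommGrpCat.{u + 1}) ξ).map ι) := inferInstance
  refine ⟨k, (AddCommGrpCat.mono_iff_injective ((stk (A := AddCommGrpCat.{u + 1}) ξ).map ι)).1 this ?_⟩
  rw [map_nsmul, hk, map_zero]

theorem Prim.of_epi {X : Scheme.{u}} {p : ℕ} {A B : EtCoh.Ab X} (π : A ⟶ B) [Epi π] (h : Prim p A) :
    Prim p B := fun Ω _ _ ξ P => by
  haveI : Epi ((stk (A := AddCommGrpCat.{u + 1}) ξ).map π) := inferInstance
  obtain ⟨Q, rfl⟩ := (AddCommGrpCat.epi_iff_surjective ((stk (A := AddCommGrpCat.{u + 1}) ξ).map π)).1 this P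
  obtain ⟨k, hk⟩ := h Ω ξ Q
  exact ⟨k, by rw [← map_nsmul, hk, map_zero]⟩

theorem Prim.pull {X Y : Scheme.{u}} {p : ℕ} {F : EtCoh.Ab Y} (j : X ⟶ Y) (h : Prim p F) :
    Prim p ((EtCoh.pull j).obj F) := fun Ω _ _ ξ P => by
  let e := ((stalkPull j ξ AddCommGrpCat.{u + 1}).app F).addCommGroupIsoToAddEquiv
  obtain ⟨Q, rfl⟩ := e.surjective P
  obtain ⟨k, hk⟩ := h Ω (ξ ≫ j) Q
  exact ⟨k, (map_nsmul e.toAddMonoidHom (p ^ k) Q).symm.trans ((congrArg e hk).trans e.map_zero)⟩

theorem nsmul_id_of_hasCard {X : Scheme.{u}} {p N : ℕ} (hp : p.Prime) {G : EtCoh.Ab X} (hG : HasCard G N)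
    (h : Prim p G) : p ^ N • 𝟙 G = 0 := by
  apply Sheaf.hom_ext
  ext ⟨U⟩ s
  show (p ^ N • 𝟙 G).hom.app (op U) s = (0 : G ⟶ G).hom.app (op U) s
  rw [nsmul_id_app]
  refine eq_of_germ (A := AddCommGrpCat.{u + 1}) G _ _ fun Ω _ _ ξ v => ?_
  haveI := (hG Ω ξ).1
  show germ (A := AddCommGrpCat.{u + 1}) ξ G U v (p ^ N • s) = germ (A := AddCommGrpCat.{u + 1}) ξ G U v 0
  rw [map_nsmul, map_zero]
  generalize germ (A := AddCommGrpCat.{u + 1}) ξ G U v s = P
  obtain ⟨k, hk⟩ := h Ω ξ P
  obtain ⟨j, hjk, hj⟩ := (Nat.dvd_prime_pow hp).1 (addOrderOf_dvd_of_nsmul_eq_zero hk)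
  have hle : j ≤ N := by
    refine le_trans (Nat.lt_pow_self hp.one_lt).le ?_
    rw [← hj, ← (hG Ω ξ).2]
    exact addOrderOf_le_card
  exact addOrderOf_dvd_iff_nsmul_eq_zero.1 (hj ▸ pow_dvd_pow p hle)

theorem eq_zero_of_germ_top {k : Type u} [Field k] {G : EtCoh.Ab (Spec (CommRingCat.of k))} {Ω : Type u} [Field Ω]
    [IsSepClosed Ω] {ξ : Spec (CommRingCat.of Ω) ⟶ Spec (CommRingCat.of k)}
    (c : Fib ξ (EtCoh.top (Spec (CommRingCat.of k))))
    (t : ToType (G.obj.obj (op (EtCoh.top (Spec (CommRingCat.of k))))))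
    (h : germ (A := AddCommGrpCat.{u + 1}) ξ G _ c t = 0) : t = 0 :=
  haveI : Subsingleton ↥(EtCoh.top (Spec (CommRingCat.of k))).left := inferInstanceAs (Subsingleton (PrimeSpectrum k))
  CdOneLib.eq_zero_of_germ G _ c t h

/-- A nonzero torsion global section over a Galois extension. -/
theorem exists_section_of_ne_zero (k : Type u) [Field k] (p : ℕ) [hp : Fact p.Prime]
    (G : EtCoh.Ab (Spec (CommRingCat.of k))) (hG : Prim p G)
    (h0 : ∃ P : ToType ((stk (A := AddCommGrpCat.{u + 1}) (ξs k)).obj G), P ≠ 0) :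
    ∃ (M : Type u) (_ : Field M) (_ : Algebra k M) (_ : FiniteDimensional k M) (_ : Algebra.IsSeparable k M)
      (t : ToType (((EtCoh.pull (cL k M)).obj G).obj.obj (op (EtCoh.top (Spec (CommRingCat.of M)))))),
        t ≠ 0 ∧ p • t = 0 := by
  obtain ⟨P, hP⟩ := h0
  have hQ : ∃ Q : ToType ((stk (A := AddCommGrpCat.{u + 1}) (ξs k)).obj G), Q ≠ 0 ∧ p • Q = 0 := by
    obtain ⟨m, hm⟩ := hG _ (ξs k) P
    induction m with
    | zero => exact absurd (by simpa using hm) hP
    | succ m ih =>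
      by_cases h : p ^ m • P = 0
      · exact ih h
      · exact ⟨_, h, by rw [← mul_smul, ← pow_succ', hm]⟩
  obtain ⟨Q, hQ0, hQp⟩ := hQ
  obtain ⟨M, _, _, _, _, z, b, hb, hbQ⟩ := exists_galois_section k p G Q hQ0 hQp
  have hb0 : b ≠ 0 := fun h => hQ0 (by rw [← hbQ, h, map_zero])
  refine ⟨M, inferInstance, inferInstance, inferInstance, inferInstance, sa (fieldEt k M) G b, fun h => hb0 ?_, ?_⟩
  · exact (bijective_sa (fieldEt k M) G).1 (h.trans (map_zero _).symm)
  · exact ((map_nsmul (sa (fieldEt k M) G).hom p b).symm.trans (congrArg _ hb)).trans (map_zero _)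

/-- A quotient `ℤ/p` over a finite extension. -/
theorem exists_epi_const (p : ℕ) [hp : Fact p.Prime] : ∀ (N : ℕ) (k : Type u) [Field k]
    (G : EtCoh.Ab (Spec (CommRingCat.of k))), HasCard G N → Prim p G →
      (∃ P : ToType ((stk (A := AddCommGrpCat.{u + 1}) (ξs k)).obj G), P ≠ 0) →
      ∃ (L : Type u) (_ : Field L) (_ : Algebra k L) (_ : FiniteDimensional k L) (_ : Algebra.IsSeparable k L)
        (φ : (EtCoh.pull (cL k L)).obj G ⟶ EtCoh.const (Spec (CommRingCat.of L)) (ZMod p)), Epi φ := by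
  intro N
  induction N using Nat.strong_induction_on with
  | _ N IH =>
  intro k _ G hG hprim h0
  obtain ⟨M, _, _, _, _, t, ht, htp⟩ := exists_section_of_ne_zero k p G hprim h0
  let G' := (EtCoh.pull (cL k M)).obj G
  have hG' : HasCard G' N := hasCard_pull k (cL k M) hG
  obtain ⟨φ, hφ⟩ := exists_hom_of_torsion_section p G' t htp
  have hone : ∀ (Ω : Type u) [Field Ω] [IsSepClosed Ω] (ξ : Spec (CommRingCat.of Ω) ⟶ Spec (CommRingCat.of M))
      (c : Fib ξ (EtCoh.top (Spec (CommRingCat.of M)))),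
      germ (A := AddCommGrpCat.{u + 1}) ξ G' (EtCoh.top _) c t ≠ 0 :=
    fun Ω _ _ ξ c h => ht (eq_zero_of_germ_top c t h)
  haveI : Mono φ := mono_of_torsion_section p φ t hφ htp hone
  by_cases hC : ∃ P : ToType ((stk (A := AddCommGrpCat.{u + 1}) (ξs M)).obj (cokernel φ)), P ≠ 0
  · let π := (stk (A := AddCommGrpCat.{u + 1}) (ξs M)).map (cokernel.π φ)
    have hπ : Function.Surjective π := (AddCommGrpCat.epi_iff_surjective _).1 inferInstance
    haveI := (hG' _ (ξs M)).1
    haveI : Finite ((stk (A := AddCommGrpCat.{u + 1}) (ξs M)).obj (cokernel φ)) := Finite.of_surjective _ hπ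
    have hlt : Nat.card ((stk (A := AddCommGrpCat.{u + 1}) (ξs M)).obj (cokernel φ)) < N := by
      rw [← (hG' _ (ξs M)).2]
      refine lt_of_le_of_ne (Nat.card_le_card_of_surjective _ hπ) fun he => ?_
      have hinj := ((Nat.bijective_iff_surjective_and_card _).2 ⟨hπ, he.symm⟩).1
      obtain ⟨c₀, -⟩ := exists_fib (ξs M) (EtCoh.top (Spec (CommRingCat.of M))) ((ξs M).base default) rfl
      refine hone _ (ξs M) c₀ (hinj ?_)
      rw [map_zero, germ_natural_apply, ← hφ]
      have e := congrArg (fun w : EtCoh.const (Spec (CommRingCat.of M)) (ZMod p) ⟶ cokernel φ =>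
        w.hom.app (op (EtCoh.top (Spec (CommRingCat.of M))))
          (cstUnit (Spec (CommRingCat.of M)) (AddCommGrpCat.of (ULift.{u + 1} (ZMod p))) ⟨1⟩)) (cokernel.condition φ)
      exact (congrArg _ e).trans (map_zero _)
    obtain ⟨L, _, _, _, _, ψ, hψ⟩ := IH _ hlt M (cokernel φ) (hasCard_of_point M (cokernel φ) (ξs M))
      ((hprim.pull (cL k M)).of_epi (cokernel.π φ)) hC
    letI : Algebra k L := ((algebraMap M L).comp (algebraMap k M)).toAlgebra
    haveI : IsScalarTower k M L := IsScalarTower.of_algebraMap_eq fun _ => rfl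
    haveI : FiniteDimensional k L := FiniteDimensional.trans k M L
    haveI : Algebra.IsSeparable k L := Algebra.IsSeparable.trans k M L
    haveI := isIso_c (cL M L) (cL k M) (cL k L) (cL_w k M L) G
    haveI : (EtCoh.pull (cL M L)).IsLeftAdjoint := (EtCoh.pullPushAdj (cL M L)).isLeftAdjoint
    exact ⟨L, inferInstance, inferInstance, inferInstance, inferInstance,
      inv ((DescSecLib.etSys.c (cL M L) (cL k M) (cL k L) (cL_w k M L)).app G) ≫
        (EtCoh.pull (cL M L)).map (cokernel.π φ) ≫ ψ, epi_comp _ _⟩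
  · push Not at hC
    haveI : IsIso φ := by
      haveI : Epi φ := (epi_iff_stalks φ).2 fun Ω _ _ ξ => by
        haveI : Subsingleton ↥(Spec (CommRingCat.of M)) := inferInstanceAs (Subsingleton (PrimeSpectrum M))
        obtain ⟨e⟩ := nonempty_stk_iso_of_eq (A := AddCommGrpCat.{u + 1}) (ξ := ξs M) (ξ' := ξ) (Subsingleton.elim _ _)
        haveI : Subsingleton ((stk (A := AddCommGrpCat.{u + 1}) ξ).obj (cokernel φ)) :=
          ⟨fun a b => (e.app (cokernel φ)).addCommGroupIsoToAddEquiv.symm.injective ((hC _).trans (hC _).symm)⟩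
        rw [AddCommGrpCat.epi_iff_surjective]
        intro y
        let S := ShortComplex.mk φ (cokernel.π φ) (cokernel.condition φ)
        exact (ShortComplex.ab_exact_iff _).1 ((ShortComplex.exact_of_g_is_cokernel S (cokernelIsCokernel φ)).map
          (stk (A := AddCommGrpCat.{u + 1}) ξ)) y
          (Subsingleton.elim (α := (stk (A := AddCommGrpCat.{u + 1}) ξ).obj (cokernel φ)) _ _)
      exact isIso_of_mono_of_epi φ
    exact ⟨M, inferInstance, inferInstance, inferInstance, inferInstance, inv φ, inferInstance⟩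

theorem nsmul_id_map {C D : Type*} [Category C] [Category D] [Preadditive C] [Preadditive D] (Φ : C ⥤ D) [Φ.Additive]
    {X : C} (n : ℕ) (h : n • 𝟙 X = 0) : n • 𝟙 (Φ.obj X) = 0 := by
  rw [← Φ.map_id, ← Functor.map_nsmul, h, Functor.map_zero]

/-- Vanishing above the dimension over a finite extension. -/
theorem subsingleton_const (K L : Type u) [Field K] [Field L] [Algebra K L] [FiniteDimensional K L]
    [Algebra.IsSeparable K L] (p n : ℕ) (hcd : EtDepth.CohDimLLE (Spec (CommRingCat.of K)) p n) (q : ℕ) (hq : n < q) :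
    Subsingleton (EtCoh.H (Spec (CommRingCat.of L)) (EtCoh.const (Spec (CommRingCat.of L)) (ZMod p)) q) := by
  haveI : IsFinite (cL K L) := EtTransferLib.isFinite_specMap K L
  haveI : (EtCoh.push (cL K L)).Additive := { }
  let A := EtCoh.const (Spec (CommRingCat.of L)) (ZMod p)
  haveI := hcd ((EtCoh.push (cL K L)).obj A) (isPrimaryTorsion_of_nsmul_id p 1
    (by rw [pow_one]; exact nsmul_id_map _ p (nsmul_id_const p))) q hq
  exact (CovDevLib.bijective_mu (p := cL K L) (A := A) q).2.subsingleton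

theorem hypP_succ (K L : Type u) [Field K] [Field L] [Algebra K L] [FiniteDimensional K L]
    [Algebra.IsSeparable K L] (p n : ℕ) (hcd : EtDepth.CohDimLLE (Spec (CommRingCat.of K)) p n) :
    HypP L p (n + 1) := fun M _ _ _ _ _ => by
  letI : Algebra K M := ((algebraMap L M).comp (algebraMap K L)).toAlgebra
  haveI : IsScalarTower K L M := IsScalarTower.of_algebraMap_eq fun _ => rfl
  haveI : FiniteDimensional K M := FiniteDimensional.trans K L M
  haveI : Algebra.IsSeparable K M := Algebra.IsSeparable.trans K L M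
  exact subsingleton_const K M p n hcd (n + 1) (by omega)

/-- Epimorphisms are surjective in the top degree. -/
theorem surjective_of_epi (K L : Type u) [Field K] [Field L] [Algebra K L] [FiniteDimensional K L]
    [Algebra.IsSeparable K L] (p : ℕ) [hp : Fact p.Prime] (n : ℕ)
    (hcd : EtDepth.CohDimLLE (Spec (CommRingCat.of K)) p n) {A B : EtCoh.Ab (Spec (CommRingCat.of L))}
    (φ : A ⟶ B) [Epi φ] (e : ℕ) (hA : p ^ e • 𝟙 A = 0) (y : EtCoh.H (Spec (CommRingCat.of L)) B n) :
    ∃ x : EtCoh.H (Spec (CommRingCat.of L)) A n, Ext.comp x (Ext.mk₀ φ) (add_zero n) = y := by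
  let S := ShortComplex.mk (kernel.ι φ) φ (kernel.condition φ)
  have hS : S.ShortExact := { exact := ShortComplex.exact_of_f_is_kernel _ (kernelIsKernel φ) }
  refine Ext.covariant_sequence_exact₃ _ hS y rfl ?_
  have hk : p ^ e • 𝟙 (kernel φ) = 0 := by
    rw [← cancel_mono (kernel.ι φ), zero_comp, Preadditive.nsmul_comp, Category.id_comp,
      ← Category.comp_id (kernel.ι φ), ← Preadditive.comp_nsmul, hA, comp_zero]
  exact pcd_le p (hypP_succ K L p n hcd) _ (isTorsion_of_nsmul_id _ (pow_pos hp.out.pos e) hk) (n + 1) (by omega) _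
    ⟨e, nsmul_ext _ hk _⟩

theorem epi_counit (k M : Type u) [Field k] [Field M] [Algebra k M] [FiniteDimensional k M]
    [Algebra.IsSeparable k M] [EtShriek.JCont (cL k M)] (Z : EtCoh.Ab (Spec (CommRingCat.of k))) :
    Epi ((EtShriek.extZeroAdj (cL k M)).counit.app Z) := by
  refine (epi_iff_stalks _).2 fun Ω _ _ ξ => ?_
  letI : Algebra k Ω := (Spec.preimage ξ).hom.toAlgebra
  let f : M →ₐ[k] Ω := IsSepClosed.lift
  have w : Spec.map (CommRingCat.ofHom f.toRingHom) ≫ cL k M = ξ := by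
    rw [← Spec.map_comp, ← Spec.map_preimage ξ]
    exact congrArg Spec.map (CommRingCat.hom_ext f.comp_algebraMap)
  suffices H : Epi ((stk (A := AddCommGrpCat.{u + 1}) (Spec.map (CommRingCat.ofHom f.toRingHom) ≫ cL k M)).map
      ((EtShriek.extZeroAdj (cL k M)).counit.app Z)) by rwa [w] at H
  let η := Spec.map (CommRingCat.ofHom f.toRingHom)
  let c := (EtShriek.extZeroAdj (cL k M)).counit.app Z
  haveI : Epi ((EtShriek.restrAlong (cL k M)).map c) :=
    epi_of_epi_fac ((EtShriek.extZeroAdj (cL k M)).right_triangle_components Z)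
  haveI : IsIso (restrTheta (cL k M)) := isIso_restrTheta (cL k M)
  haveI : Epi ((EtCoh.pull (cL k M)).map c) := by
    rw [show (EtCoh.pull (cL k M)).map c = (restrTheta (cL k M)).app _ ≫ (EtShriek.restrAlong (cL k M)).map c ≫
      inv ((restrTheta (cL k M)).app Z) from by
        rw [← Category.assoc, IsIso.eq_comp_inv]
        exact (restrTheta (cL k M)).naturality c]
    infer_instance
  haveI : Epi ((stk (A := AddCommGrpCat.{u + 1}) η).map ((EtCoh.pull (cL k M)).map c)) := inferInstance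
  have hnat := (stalkPull (cL k M) η AddCommGrpCat.{u + 1}).hom.naturality c
  have e : (stk (A := AddCommGrpCat.{u + 1}) (η ≫ cL k M)).map c =
      (stalkPull (cL k M) η AddCommGrpCat.{u + 1}).hom.app _ ≫
        (stk (A := AddCommGrpCat.{u + 1}) η).map ((EtCoh.pull (cL k M)).map c) ≫
        (stalkPull (cL k M) η AddCommGrpCat.{u + 1}).inv.app Z := by
    rw [← Category.assoc]
    exact ((stalkPull (cL k M) η AddCommGrpCat.{u + 1}).app Z).eq_comp_inv.2 hnat
  show Epi ((stk (A := AddCommGrpCat.{u + 1}) (η ≫ cL k M)).map c)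
  rw [e]
  infer_instance

/-- Vanishing descends from a finite extension. -/
theorem subsingleton_descend (K L' M : Type u) [Field K] [Field L'] [Field M] [Algebra K L'] [Algebra L' M]
    [FiniteDimensional K L'] [Algebra.IsSeparable K L'] [FiniteDimensional L' M] [Algebra.IsSeparable L' M]
    (p : ℕ) [hp : Fact p.Prime] (n : ℕ) (hcd : EtDepth.CohDimLLE (Spec (CommRingCat.of K)) p n)
    (hM : HypP M p n) :
    Subsingleton (EtCoh.H (Spec (CommRingCat.of L')) (EtCoh.const (Spec (CommRingCat.of L')) (ZMod p)) n) := by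
  let π := cL L' M
  haveI : IsFinite π := EtTransferLib.isFinite_specMap L' M
  haveI := jCont π
  let Z := EtCoh.const (Spec (CommRingCat.of L')) (ZMod p)
  let R := (EtShriek.restrAlong π).obj Z
  haveI : (EtShriek.restrAlong π).Additive := ⟨fun {_ _ _ _} => rfl⟩
  haveI : (EtShriek.extZero π).Additive := (EtShriek.extZeroAdj π).left_adjoint_additive
  have hR : p • 𝟙 R = 0 := nsmul_id_map _ p (nsmul_id_const p)
  haveI := epi_counit L' M Z
  haveI := isIso_preι_of_proper π
  let e : (EtShriek.extZero π).obj R ≅ (EtCoh.push π).obj R :=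
    (extZeroPreIso π).app R ≪≫ (asIso (preι π)).app R
  haveI hR0 : Subsingleton (EtCoh.H (Spec (CommRingCat.of M)) R n) := subsingleton_of_forall_eq 0 fun x =>
    eq_zero_of_hypP p hM R (isTorsion_of_nsmul_id p hp.out.pos hR) x ⟨1, by rw [pow_one]; exact nsmul_ext p hR x⟩
  refine subsingleton_of_forall_eq 0 fun y => ?_
  obtain ⟨x, rfl⟩ := surjective_of_epi K L' p n hcd ((EtShriek.extZeroAdj π).counit.app Z) 1
    (by rw [pow_one]; exact nsmul_id_map (EtShriek.extZero π) p hR) y
  have hx : x = 0 := EtContLib.ext_eq_zero_of_comp x e.hom inferInstance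
    ((CovDevLib.bijective_mu (p := π) (A := R) n).1 (Subsingleton.elim _ _))
  rw [hx, Ext.zero_comp]

theorem exists_cons_sub {k : Type u} [Field k] (F : EtCoh.Ab (Spec (CommRingCat.of k))) (hF : EtCoh.IsTorsion F)
    (q : ℕ) (x : EtCoh.H (Spec (CommRingCat.of k)) F q) :
    ∃ (I : EtCoh.Ab (Spec (CommRingCat.of k))) (ι : I ⟶ F) (_ : Mono ι),
      IsCons (A := AddCommGrpCat.{u + 1}) FinP I ∧
      ∃ z : EtCoh.H (Spec (CommRingCat.of k)) I q, Ext.comp (z : Ext.{u + 1} _ _ q) (Ext.mk₀ ι) (add_zero q) = x := by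
  haveI := isFiltered_consOver F
  haveI := Groth.Agent.CdOneLib.preservesFilteredColimits_H (X := Spec (CommRingCat.of k)) q (ConsOver F)
  haveI : IsFilteredOrEmpty (ConsOver F) := IsFiltered.toIsFilteredOrEmpty
  obtain ⟨hc⟩ := nonempty_isColimit_consCocone F (torsionBy_of_isTorsion hF)
  obtain ⟨r, z, hz⟩ := Concrete.isColimit_exists_rep _
    (isColimitOfPreserves (EtCoh.HF (Spec (CommRingCat.of k)) q) hc) x
  let g := (consCocone F).ι.app r
  refine ⟨Abelian.image g, Abelian.image.ι g, inferInstance,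
    cons_of_epi (Abelian.factorThruImage g) (PresOver.isCons (F := F) r),
    Ext.comp (z : Ext.{u + 1} _ _ q) (Ext.mk₀ (Abelian.factorThruImage g)) (add_zero q), ?_⟩
  rw [Ext.comp_assoc_of_second_deg_zero, Ext.mk₀_comp_mk₀, Abelian.image.fac]
  exact hz

theorem isTorsion_of_primary {X : Scheme.{u}} {p : ℕ} (hp : p.Prime) {F : EtCoh.Ab X}
    (hF : Dix.IsPrimaryTorsion p F) : EtCoh.IsTorsion F := by
  intro U s x
  obtain ⟨V, g, hx, k, hk⟩ := hF U s x
  exact ⟨V, g, hx, isOfFinAddOrder_iff_nsmul_eq_zero.2 ⟨p ^ k, pow_pos hp.pos k, hk⟩⟩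

/-- Without `HypP` the dimension drops. -/
theorem cohDimLLE_of_hypP {k : Type u} [Field k] (p : ℕ) [hp : Fact p.Prime] {n : ℕ} (h : HypP k p (n + 1)) :
    EtDepth.CohDimLLE (Spec (CommRingCat.of k)) p n := fun F hF q hq => subsingleton_of_forall_eq 0 fun x => by
  obtain ⟨I, ι, hι, hI, z, rfl⟩ := exists_cons_sub F (isTorsion_of_primary hp.out hF) q x
  haveI := hι
  obtain ⟨N, hN⟩ := exists_hasCard k hI
  have hkill := nsmul_id_of_hasCard hp.out hN
    (Prim.of_mono ι fun Ω _ _ ξ P => exists_pow_nsmul_stk hF ξ P)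
  rw [pcd_le p h I (isTorsion_of_nsmul_id _ (pow_pos hp.out.pos N) hkill) q hq z ⟨N, nsmul_ext _ hkill z⟩,
    Ext.zero_comp]

end EtTopDegLib

end
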